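import Cfsg.Agent.H755.PB.RegA

/-!
# S4884: the Steinberg character for regular numbers, part B (helper755)

* `IsTor.mem_of_centralizer` : the `q`-regular elements centralizing the `q`-torsion `D` of a regular torus lie in it;
* `comap_PJ` : parabolic subgroups and field extensions;
* `IsTor.mem_conj_PJ` : `D ≤ x P_J x⁻¹` implies `T ≤ x P_J x⁻¹` (`X = D.group F`);
* `IsTor.index_or_reg`, `realReg` : the Steinberg character of `D.group F` lies in the principal `q`-block.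
-/

set_option autoImplicit false
set_option linter.unusedSectionVars false
set_option linter.unusedVariables false

namespace Cfsg.Agent.H755.PB

open CoxeterSystem Cfsg Cfsg.Lie Cfsg.Lie.ChevalleyDatum
open Cfsg.Agent.ChevalleyStructure Cfsg.Agent.ChevalleyStructure.Elts Cfsg.Agent.ChevalleyStructure.CoxeterGeom
  Cfsg.Agent.ChevalleyStructure.CoxeterGeomTypes Cfsg.Agent.ChevalleyStructure.NPerm
open Cfsg.Agent.Tits.Roots Cfsg.Agent.Tits.Core Cfsg.Agent.Nodes Cfsg.Agent.Nodes.Reps Cfsg.Agent.Nodes.BNOf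
  Cfsg.Agent.Nodes.RGDChev Cfsg.Agent.Nodes.Bruhat Cfsg.Agent.Nodes.SubComb Cfsg.Agent.Nodes.Coroot
  Cfsg.Agent.Nodes.LeviDec
open Cfsg.Agent.KFacts.RgdField Cfsg.Agent.KFacts.RgdChevCoord Cfsg.Agent.BpExc.TorCent Cfsg.Agent.BpExc.TorChev
open Cfsg.Agent.GpExc.Field Cfsg.Agent.BpExc.Tow Cfsg.Agent.BpExc.TowChev Cfsg.Agent.BpExc.Fr
  Cfsg.Agent.BpExc.LangFr Cfsg.Agent.LangThm Cfsg.Agent.BpExc Cfsg.Agent.H129.TorusChar Cfsg.Agent.H129.TorusMain
open Cfsg.Agent.H129.TorAct (cX_tau tau_mem exists_theta)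
open Cfsg.Agent.H129.TorusUntw (phi phi_emb coe_phi isFrob_phi fr_phi)
open Cfsg.Agent.H630.NH Cfsg.Agent.H630.Exc Cfsg.Agent.H317.PQ Cfsg.Agent.H990.PQ
open Cfsg.Agent.H130.WeylCk Cfsg.Agent.H130.PolyL Cfsg.Agent.H755.PQ

universe u v

section Gen

variable {D : ChevalleyDatum} {l : ℕ} {M : CoxeterMatrix (Fin l)} (hp : IsType D l M) {k : Type u} [Field k]
  {W : Type*} [Group W] (cs : CoxeterSystem M W)

variable {p e : ℕ} [Fact p.Prime] [CharP k p] {σ : MulAut ↥(D.group k)} {g : (Fin l → ℤ) ≃+ (Fin l → ℤ)}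
  {X : Type v} [Group X] {e0 : X →* ↥(D.group k)} {d : ℕ} (S : Setup hp cs p e σ g e0 d)

/-- `T` is the torus of `θ = ε R`, `z`, `w` given; every root is nontrivial on the elements of order `r` of `T`:
the data used below. -/
structure RegTor (S : Setup hp cs p e σ g e0 d) (r : ℕ) (z : ↥(D.group k)) : Prop where
  /-- the torus contains all the fixed elements needed -/
  root : ∀ a, IsRoot cs hp.isCartan a → ∃ x : X, z⁻¹ * e0 x * z ∈ TT D k ∧ x ^ r = 1 ∧ cX hp (z⁻¹ * e0 x * z) a ≠ 1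

variable {S} {ε : ℤ} {R : Module.End ℤ (Fin l → ℤ)} {T : Subgroup X}

theorem exists_regTor [IsAlgClosed k] [Finite W] [Finite X] (h : IsTor hp cs S ε R T)
    (hε : ε = 1 ∨ ε = -1) {r : ℕ} (hrp : r.Prime)
    (hrc : r ≠ p) (hrd : ¬ r ∣ d) (hr2 : r ≠ 2) {Q : ℤ} (hQ : Q = ε * (p ^ e : ℕ))
    {n : ℕ} (hR : R ^ n = 1) (hrQ : (r : ℤ) ∣ Q ^ n - 1)
    (hreg : ∀ a, IsRoot cs hp.isCartan a → ∃ L : (Fin l → ℤ) →+ ℤ,
      ¬ (r : ℤ) ∣ ∑ j ∈ Finset.range n, Q ^ (n - j) * L ((R ^ j) a)) :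
    ∃ z : ↥(D.group k), T = tX D k e0 z ∧ RegTor hp cs S r z := by
  have : Fact r.Prime := ⟨hrp⟩
  obtain ⟨w, n', z, hw, hn', hz, rfl⟩ := h
  have hrZ := Nat.prime_iff_prime_int.1 hrp
  have hNs := S.nsys hp cs
  have hrk : (r : k) ≠ 0 := by
    rw [Ne, CharP.cast_eq_zero_iff k p]
    intro h
    exact hrc ((Nat.prime_dvd_prime_iff_eq (Fact.out : p.Prime) hrp).1 h).symm
  obtain ⟨B, d', hd', hB⟩ := S.inv
  have hθ : ∀ x, (theta hp cs w g)^[2 * n] x = x := theta_powR hp cs hε hw hR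
  have hq : (r : ℤ) ∣ ((p ^ e : ℕ) : ℤ) ^ (2 * n) - 1 := by
    have h1 : ((p ^ e : ℕ) : ℤ) ^ (2 * n) = Q ^ (2 * n) := by rw [hQ, mul_pow, eps_pow_two hε, one_mul]
    rw [h1]
    refine hrQ.trans ⟨Q ^ n + 1, ?_⟩
    ring
  have hroot : ∀ a, IsRoot cs hp.isCartan a → ∃ L : (Fin l → ℤ) →+ ℤ,
      ¬ (r : ℤ) ∣ Lq L (theta hp cs w g) (p ^ e) (2 * n) a := by
    intro a ha
    obtain ⟨L, hL⟩ := hreg a ha
    refine ⟨L, fun h1 => ?_⟩
    rw [Lq_eqR hp cs hε hw hR _ hQ] at h1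
    rcases hrZ.dvd_mul.1 h1 with h2 | h2
    · have h3 : (r : ℤ) ∣ 2 := by
        have h4 := dvd_sub h2 hrQ
        have h5 : Q ^ n + 1 - (Q ^ n - 1) = 2 := by ring
        rwa [h5] at h4
      have h4 : r ∣ 2 := by exact_mod_cast h3
      exact hr2 ((Nat.prime_dvd_prime_iff_eq hrp Nat.prime_two).1 h4)
    · exact hL h2
  refine ⟨z, rfl, ⟨fun a ha => ?_⟩⟩
  obtain ⟨L, hL⟩ := hroot a ha
  obtain ⟨t, ht, h1, h2, h3⟩ := exists_torsion hp hB hd' hθ hrk hq L hL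
  obtain ⟨x, hx⟩ := S.exists_of_tau hp cs hz ((tau_iff hp cs S.lf S.frob S.fr hn' ht).2 h1) hrp hrd ⟨1, by
    rw [pow_one]; exact h2⟩
  refine ⟨x, by rw [hx]; exact ht, ?_, by rw [hx]; exact h3⟩
  apply S.inj
  rw [map_pow, map_one]
  have h4 : e0 x = z * t * z⁻¹ := by rw [← hx]; group
  rw [h4, conj_pow, h2]; group

/-- **The `r`-regular elements of the centralizer of the `r`-torsion of the torus** lie in the torus. -/
theorem RegTor.mem_of_centralizer [IsAlgClosed k] [Finite W] [Finite X] {r : ℕ} (hrp : r.Prime)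
    {z : ↥(D.group k)} (hz : RegTor hp cs S r z) {y : X}
    (hyc : ∀ x ∈ tXr hp S.inj z r, x * y = y * x) (hyo : ¬ r ∣ orderOf y) : y ∈ tX D k e0 z := by
  have hNs := S.nsys hp cs
  set A : Set ↥(D.group k) := (fun x : X => z⁻¹ * e0 x * z) '' (tXr hp S.inj z r : Set X) with hA
  have hAf : A.Finite := (Set.toFinite _).image _
  have hAT : ∀ t ∈ A, t ∈ TT D k := by
    rintro _ ⟨x, hx, rfl⟩
    exact hx.1
  have hAr : ∀ t ∈ A, t ^ r = 1 := by
    rintro _ ⟨x, hx, rfl⟩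
    show (z⁻¹ * e0 x * z) ^ r = 1
    have h1 : x ^ r = 1 := hx.2
    rw [S.conj_pow_eq hp cs, h1, map_one]; group
  have hcomm : ∀ t ∈ A, (z⁻¹ * e0 y * z) * t = t * (z⁻¹ * e0 y * z) := by
    rintro _ ⟨x, hx, rfl⟩
    have h2 : y * x = x * y := (hyc x hx).symm
    calc z⁻¹ * e0 y * z * (z⁻¹ * e0 x * z) = z⁻¹ * (e0 (y * x)) * z := by rw [map_mul]; group
      _ = z⁻¹ * (e0 (x * y)) * z := by rw [h2]
      _ = _ := by rw [map_mul]; group
  have hcs : (z⁻¹ * e0 y * z) ^ orderOf y = 1 := by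
    rw [S.conj_pow_eq hp cs, pow_orderOf_eq_one, map_one]
    group
  exact mem_TT_of_pow hp cs S.lf p hNs hAf hAT (fun a ha => by
    obtain ⟨x, hx1, hx2, hx3⟩ := hz.root a ha
    exact ⟨_, ⟨x, ⟨hx1, hx2⟩, rfl⟩, hx3⟩) (r := r) hAr (orderOf_pos y)
    ((Nat.Prime.coprime_iff_not_dvd hrp).2 hyo).symm hcomm hcs

end Gen

/-! ### parabolic subgroups and field extensions -/

section Field

variable {D : ChevalleyDatum} {l : ℕ} {M : CoxeterMatrix (Fin l)} (hp : IsType D l M)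
  {W : Type*} [Group W] (cs : CoxeterSystem M W) {F E : Type u} [Field F] [Field E] [Finite F] [Finite E]

theorem comap_PJ [Finite W] {p : ℕ} [Fact p.Prime] [CharP F p] [CharP E p] (f : F →+* E) (J : Set (Fin l)) {x : ↥(D.group F)} :
    emb hp.inList f x ∈ PJ cs hp.isCartan (TT D E) (XX D l E) J ↔ x ∈ PJ cs hp.isCartan (TT D F) (XX D l F) J := by
  have RF := rgd (K := F) hp cs p
  have RE := rgd (K := E) hp cs p
  have hGF : GG cs hp.isCartan (TT D F) (XX D l F) = ⊤ := GG_top hp cs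
  set P := (PJ cs hp.isCartan (TT D E) (XX D l E) J).comap (emb hp.inList f) with hP
  have hT : ∀ t ∈ TT D F, emb hp.inList f t ∈ TT D E := fun t ht => emb_T hp f ⟨t, ht, rfl⟩
  have hX : ∀ a, IsRoot cs hp.isCartan a → ∀ y ∈ XX D l F a, emb hp.inList f y ∈ XX D l E a := fun a ha y hy =>
    emb_X hp f cs ha ⟨y, hy, rfl⟩
  have hB : RGD.B cs hp.isCartan (TT D F) (XX D l F) ≤ P := by
    refine sup_le (fun t ht => ?_) (RGD.Sup_le fun a ha y hy => ?_)
    · exact (RGD.T_le_B.trans B_le_PJ) (hT t ht)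
    · exact (RGD.U_le_B.trans B_le_PJ) (RGD.le_Sup (S := RGD.Pos cs hp.isCartan) ha (hX a ha.1 y hy))
  have h1 := H554.RG.eq_PJ RF hGF hB
  have h2 : {i | (⟨nn hp F i, nn_mem_group hp i⟩ : ↥(D.group F)) ∈ P} = J := by
    ext i
    have h3 : emb hp.inList f (⟨nn hp F i, nn_mem_group hp i⟩ : ↥(D.group F)) = ⟨nn hp E i, nn_mem_group hp i⟩ :=
      emb_nc hp f i
    show emb hp.inList f (⟨nn hp F i, nn_mem_group hp i⟩ : ↥(D.group F)) ∈
      PJ cs hp.isCartan (TT D E) (XX D l E) J ↔ i ∈ J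
    rw [h3]
    exact H554.RG.n_mem_PJ_iff RE
  rw [h2] at h1
  show x ∈ P ↔ _
  rw [h1]

end Field

/-! ### the main lemma -/

section Main

variable {D : ChevalleyDatum} {l : ℕ} {M : CoxeterMatrix (Fin l)} (hp : IsType D l M) {k : Type u} [Field k]
  {W : Type*} [Group W] (cs : CoxeterSystem M W)

variable {p e : ℕ} [Fact p.Prime] [CharP k p] {σ : MulAut ↥(D.group k)} {g : (Fin l → ℤ) ≃+ (Fin l → ℤ)}
  {F : Type u} [Field F] [Finite F] [CharP F p] {f : F →+* k} {d : ℕ}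
  {S : Setup hp cs p e σ g (emb hp.inList f) d}

/-- **A conjugate of a parabolic subgroup containing the `r`-torsion of a regular torus contains the torus.** -/
theorem RegTor.mem_conj_PJ [IsAlgClosed k] [Finite W] {r : ℕ} [hr : Fact r.Prime] (hrc : r ≠ p)
    {z : ↥(D.group k)} (hz : RegTor hp cs S r z) {J : Set (Fin l)} {x : ↥(D.group F)}
    (hx : ∀ y ∈ tXr hp S.inj z r, x⁻¹ * y * x ∈ PJ cs hp.isCartan (TT D F) (XX D l F) J)
    {s : ↥(D.group F)} (hs : s ∈ tX D k (emb hp.inList f) z) :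
    x⁻¹ * s * x ∈ PJ cs hp.isCartan (TT D F) (XX D l F) J := by
  have hk := S.lf
  have H := tow hp cs hk p
  have C := coordsL hp cs hk p
  -- the level
  obtain ⟨j0, h0⟩ := exists_level hp hk z
  obtain ⟨j1, h1⟩ := H.exists_level (S := fun j => (Tj hp (k := k) j : Set ↥(D.group k)))
    (fun a b hab => SetLike.coe_subset_coe.2 (H.monoT hab))
    (f := fun t : ↥(tX D k (emb hp.inList f) z) => z⁻¹ * emb hp.inList f (t : ↥(D.group F)) * z)
    (fun t => H.mem_TL.1 (by rw [TL_eq hp hk]; exact t.2))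
  obtain ⟨j2, h2⟩ := exists_lev hk (Set.range f) (Set.finite_range f)
  obtain ⟨j3, b0, b1⟩ := H.dir j0 j1
  obtain ⟨E, b2, b3⟩ := H.dir j2 j3
  have hE : Finite ↥E.1 := E.2
  have : CharP ↥E.1 p := charP_lev p E.1
  obtain ⟨zE, hzE⟩ := h0 E (b0.trans b3)
  let fE : F →+* ↥E.1 := f.codRestrict E.1 fun a => b2 (h2 ⟨a, rfl⟩)
  have hfE : ∀ y : ↥(D.group F), emb hp.inList E.1.subtype (emb hp.inList fE y) = emb hp.inList f y := by
    intro y
    rw [emb_comp]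
    rfl
  have hinj : Function.Injective (emb hp.inList E.1.subtype) := emb_injective hp.inList _
  have RE := rgd (K := ↥E.1) hp cs p
  let φ : ↥(D.group F) →* ↥(D.group ↥E.1) := (MulAut.conj zE⁻¹).toMonoidHom.comp (emb hp.inList fE)
  have hφ : ∀ y, φ y = zE⁻¹ * emb hp.inList fE y * zE := by
    intro y
    show zE⁻¹ * emb hp.inList fE y * zE⁻¹⁻¹ = _
    rw [inv_inv]
  have hφe : ∀ y, emb hp.inList E.1.subtype (φ y) = z⁻¹ * emb hp.inList f y * z := by
    intro y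
    rw [hφ, map_mul, map_mul, map_inv, hfE, hzE]
  have hφT : ∀ y ∈ tX D k (emb hp.inList f) z, φ y ∈ TT D ↥E.1 := by
    intro y hy
    obtain ⟨t', ht', e⟩ := H.monoT (b1.trans b3) (h1 ⟨y, hy⟩)
    rw [← hφe] at e
    rw [← hinj e]
    exact ht'
  have hcj : ∀ y, (zE⁻¹ * emb hp.inList fE x)⁻¹ * φ y * (zE⁻¹ * emb hp.inList fE x) =
      emb hp.inList fE (x⁻¹ * y * x) := by
    intro y
    rw [hφ, map_mul, map_mul, map_inv]
    group
  set B : Subgroup ↥(D.group ↥E.1) := (tXr hp S.inj z r).map φ with hB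
  have hBT : B ≤ TT D ↥E.1 := by
    rintro _ ⟨y, hy, rfl⟩
    exact hφT y hy.1
  have hBq : IsPGroup r B := by
    rintro ⟨_, y, hy, rfl⟩
    refine ⟨1, Subtype.ext ?_⟩
    rw [pow_one]
    show (φ y) ^ r = 1
    rw [← map_pow, hy.2, map_one]
  have hUp : IsPGroup p ↥(RGD.Sup (XX D l ↥E.1) (RGD.Pos cs hp.isCartan)) := RE.isPGroup_Upos
  have hU : ¬ r ∣ Nat.card ↥(RGD.Sup (XX D l ↥E.1) (RGD.Pos cs hp.isCartan)) := by
    obtain ⟨m, hm⟩ := IsPGroup.iff_card.1 hUp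
    rw [hm]
    intro h3
    exact hrc ((Nat.prime_dvd_prime_iff_eq hr.out (Fact.out : p.Prime)).1 (hr.out.dvd_of_dvd_pow h3))
  have hreg : ∀ u ∈ RGD.Sup (XX D l ↥E.1) (RGD.Pos cs hp.isCartan), (∀ a ∈ B, a * u = u * a) → u = 1 := by
    intro u hu hc
    have h3 : u ∈ RGD.Sup (XX D l ↥E.1) (RGD.Pos cs hp.isCartan) ⊓ Subgroup.centralizer (B : Set ↥(D.group ↥E.1)) :=
      ⟨hu, Subgroup.mem_centralizer_iff.2 hc⟩
    rw [NormalForm.centralizer_U RE (S := (B : Set ↥(D.group ↥E.1))) hBT] at h3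
    have key : RGD.Sup (fun a => XX D l ↥E.1 a ⊓ Subgroup.centralizer (B : Set ↥(D.group ↥E.1)))
        (RGD.Pos cs hp.isCartan) ≤ ⊥ := by
      refine RGD.Sup_le fun a ha => ?_
      rintro y ⟨hy, hyc⟩
      rw [Subgroup.mem_bot]
      by_contra hy1
      obtain ⟨x0, hx0, hx0r, hx0a⟩ := hz.root a ha.1
      have h4 : emb hp.inList E.1.subtype y ∈ XX D l k a := emb_X hp _ cs ha.1 ⟨y, hy, rfl⟩
      have h5 : emb hp.inList E.1.subtype y ≠ 1 := fun h => hy1 (hinj (by rw [h, map_one]))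
      have h6 : φ x0 * y = y * φ x0 := (Subgroup.mem_centralizer_iff.1 hyc) _ ⟨x0, ⟨hx0, hx0r⟩, rfl⟩
      have h7 : emb hp.inList E.1.subtype y ∈ Subgroup.centralizer {z⁻¹ * emb hp.inList f x0 * z} := by
        rw [Subgroup.mem_centralizer_singleton_iff, ← hφe, ← map_mul, ← map_mul, h6]
      have h8 := mem_Sx_of_centralizer C hx0 ha.1 h4 h5 h7
      exact hx0a (by rw [cX_root hp cs hx0 ha.1]; exact h8.2)
    exact Subgroup.mem_bot.1 (key h3)
  have h3 := T_le_of_fix RE hBT hBq hU hreg (g := zE⁻¹ * emb hp.inList fE x)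
    (by rw [GG_top hp cs]; exact Subgroup.mem_top _) (J := J) (by
      rintro _ ⟨y, hy, rfl⟩
      rw [hcj]
      exact (comap_PJ hp cs (p := p) fE J).2 (hx y hy)) (t := φ s) (hφT s hs)
  rw [hcj] at h3
  exact (comap_PJ hp cs (p := p) fE J).1 h3

open Cfsg.Agent.H116.RatB0

/-- the index or the number of `r`-regular elements -/
theorem RegTor.index_or_reg [IsAlgClosed k] [Finite W] {r : ℕ} [hr : Fact r.Prime] (hrc : r ≠ p)
    {z : ↥(D.group k)} (hz : RegTor hp cs S r z) (J : Set (Fin l)) :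
    r ∣ (PJ cs hp.isCartan (TT D F) (XX D l F) J).index ∨
      reg r (PJ cs hp.isCartan (TT D F) (XX D l F) J) ≡ reg r (⊤ : Subgroup ↥(D.group F)) [MOD r] := by
  by_cases hidx : r ∣ (PJ cs hp.isCartan (TT D F) (XX D l F) J).index
  · exact Or.inl hidx
  refine Or.inr ?_
  set P := PJ cs hp.isCartan (TT D F) (XX D l F) J with hP
  set Q := tXr hp S.inj z r with hQ
  have hQp : IsPGroup r Q := by
    rintro ⟨x, hx⟩
    exact ⟨1, Subtype.ext (by rw [pow_one]; exact hx.2)⟩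
  obtain ⟨ω, hω⟩ := hQp.nonempty_fixed_point_of_prime_not_dvd_card (↥(D.group F) ⧸ P) (by
    rwa [Subgroup.index] at hidx)
  obtain ⟨x, rfl⟩ := QuotientGroup.mk_surjective ω
  have hx : ∀ y ∈ Q, x⁻¹ * y * x ∈ P := by
    intro y hy
    have h1 : y • (QuotientGroup.mk x : ↥(D.group F) ⧸ P) = QuotientGroup.mk x := hω ⟨y, hy⟩
    rw [MulAction.Quotient.smul_mk, eq_comm, QuotientGroup.eq, smul_eq_mul] at h1
    rwa [mul_assoc]
  have hT : ∀ s ∈ tX D k (emb hp.inList f) z, x⁻¹ * s * x ∈ P := fun s hs => hz.mem_conj_PJ hp cs hrc hx hs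
  -- the conjugate
  set P' := P.map (MulAut.conj x).toMonoidHom with hP'
  have hmem : ∀ y, y ∈ P' ↔ x⁻¹ * y * x ∈ P := by
    intro y
    constructor
    · rintro ⟨a, ha, rfl⟩
      have e : x⁻¹ * (MulAut.conj x).toMonoidHom a * x = a := by
        show x⁻¹ * (x * a * x⁻¹) * x = a
        group
      rw [e]; exact ha
    · intro h
      refine ⟨x⁻¹ * y * x, h, ?_⟩
      show x * (x⁻¹ * y * x) * x⁻¹ = y
      group
  have h1 : reg r P = reg r P' := by
    refine Nat.card_congr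
      { toFun := fun y => ⟨x * y.1 * x⁻¹, (hmem _).2 (by
          have e : x⁻¹ * (x * y.1 * x⁻¹) * x = y.1 := by group
          rw [e]; exact y.2.1), by rw [orderOf_conj']; exact y.2.2⟩
        invFun := fun y => ⟨x⁻¹ * y.1 * x, (hmem _).1 y.2.1, by
          have h2 := orderOf_conj' x⁻¹ y.1
          rw [inv_inv] at h2
          rw [h2]; exact y.2.2⟩
        left_inv := fun y => Subtype.ext (by simp only; group)
        right_inv := fun y => Subtype.ext (by simp only; group) }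
  rw [h1]
  have h2 := reg_modEq hQp (H := P') fun y hy => (hmem y).2 (hx y hy)
  refine h2.trans ((reg_modEq hQp (H := ⊤) le_top).trans ?_).symm
  have h3 : Nat.card {y : ↥(D.group F) // (y ∈ (⊤ : Subgroup ↥(D.group F)) ∧ y ∈ Subgroup.centralizer (Q : Set _)) ∧
      ¬ r ∣ orderOf y} =
      Nat.card {y : ↥(D.group F) // (y ∈ P' ∧ y ∈ Subgroup.centralizer (Q : Set _)) ∧ ¬ r ∣ orderOf y} :=
    Nat.card_congr (Equiv.subtypeEquivRight fun y =>
      ⟨fun hy => ⟨⟨(hmem y).2 (hT y (hz.mem_of_centralizer hp cs hr.out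
        (Subgroup.mem_centralizer_iff.1 hy.1.2) hy.2)), hy.1.2⟩, hy.2⟩,
        fun hy => ⟨⟨Subgroup.mem_top y, hy.1.2⟩, hy.2⟩⟩)
  rw [h3]

end Main

end Cfsg.Agent.H755.PB
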