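import Cfsg.Agent.H755.PB.RegC
import Cfsg.Agent.H755.PB.RelB
import Cfsg.Agent.H630.ExcK

/-!
# S4884: the Steinberg character of the Levi subgroup `E₆` of `E₇(r)`, `q ∣ r² + 1` (helper755)

`rel_E7_four` : `J ∌ 6` : `q ∣ |G : P_J|` or `reg q P_J ≡ reg q P_{E₆}` modulo `q`.
-/

set_option autoImplicit false
set_option linter.unusedSectionVars false
set_option linter.unusedVariables false

namespace Cfsg.Agent.H755.PB

open CoxeterSystem Cfsg Cfsg.Lie Cfsg.Lie.ChevalleyDatum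
open Cfsg.Agent.ChevalleyStructure Cfsg.Agent.ChevalleyStructure.Elts Cfsg.Agent.ChevalleyStructure.CoxeterGeom
  Cfsg.Agent.ChevalleyStructure.CoxeterGeomTypes Cfsg.Agent.ChevalleyStructure.NPerm
open Cfsg.Agent.Tits.Roots Cfsg.Agent.Tits.Core Cfsg.Agent.Nodes Cfsg.Agent.Nodes.Reps Cfsg.Agent.Nodes.BNOf
  Cfsg.Agent.Nodes.RGDChev Cfsg.Agent.Nodes.Bruhat Cfsg.Agent.Nodes.SubComb Cfsg.Agent.Nodes.Coroot
  Cfsg.Agent.Nodes.LeviDec Cfsg.Agent.Nodes.StabComb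
open Cfsg.Agent.KFacts.RgdField Cfsg.Agent.KFacts.RgdChevCoord Cfsg.Agent.BpExc.TorCent Cfsg.Agent.BpExc.TorChev
open Cfsg.Agent.GpExc.Field Cfsg.Agent.BpExc.Tow Cfsg.Agent.BpExc.TowChev Cfsg.Agent.BpExc.Fr
  Cfsg.Agent.BpExc.LangFr Cfsg.Agent.LangThm Cfsg.Agent.BpExc Cfsg.Agent.H129.TorusChar Cfsg.Agent.H129.TorusMain
open Cfsg.Agent.H129.TorAct (cX_tau tau_mem exists_theta)
open Cfsg.Agent.H129.TorusUntw (phi phi_emb coe_phi isFrob_phi fr_phi)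
open Cfsg.Agent.H630.NH Cfsg.Agent.H630.Exc Cfsg.Agent.H317.PQ Cfsg.Agent.H990.PQ
open Cfsg.Agent.H130.WeylCk Cfsg.Agent.H130.PolyL Cfsg.Agent.H130.WeylTab Cfsg.Agent.H755.PQ
open Cfsg.Agent.H116.RatB0

universe u v

/-- the check `RegCk` for the roots with coordinate `c` equal to `0` -/
def RegCkC (D : ChevalleyDatum) (l c : ℕ) (Al Bl : List (List ℤ)) (word : List (Fin l)) (k n : ℕ)
    (m : List (List ℤ)) (K : List (List ℤ × List ℤ × List ℤ × ℤ)) (N0 : ℤ) : Prop :=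
  (m.length = l ∧ Bl.length = l ∧ (∀ b ∈ m, b.length = l) ∧ (∀ b ∈ Bl, b.length = l)) ∧
  (∀ i : Fin l, acn Al word k (bas l i) = m.getD i []) ∧
  (∀ i : Fin l, acn Al word (k * n) (bas l i) = bas l i) ∧
  (∀ v ∈ rootL D l, v.getD c 0 = 0 → gl l m (lc l v Bl) n v [] ∈ K.map Prod.fst) ∧
  (∀ t ∈ K, eqL (addL (mulL t.2.1 t.1) (mulL t.2.2.1 (cycL n))) [t.2.2.2] = true ∧ t.2.2.2 ∣ N0)

instance decRegCkC (D : ChevalleyDatum) (l c : ℕ) (Al Bl : List (List ℤ)) (word : List (Fin l)) (k n : ℕ)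
    (m : List (List ℤ)) (K : List (List ℤ × List ℤ × List ℤ × ℤ)) (N0 : ℤ) :
    Decidable (RegCkC D l c Al Bl word k n m K N0) := by
  unfold RegCkC
  infer_instance

section Gen

variable {D : ChevalleyDatum} {l : ℕ} {M : CoxeterMatrix (Fin l)} (hp : IsType D l M)
  {W : Type*} [Group W] (cs : CoxeterSystem M W)

/-- **Relative regularity from a table.** -/
theorem regAt_of_ckC {c : Fin l} {Al Bl : List (List ℤ)} (hA : MatList (cartanOf D l) Al) {word : List (Fin l)}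
    {k n : ℕ} {m : List (List ℤ)} {K : List (List ℤ × List ℤ × List ℤ × ℤ)} {N0 : ℤ}
    (H : RegCkC D l c Al Bl word k n m K N0)
    (hn : n ∈ H130.PolyL.idx) {r : ℕ} (hr : r.Prime) {Q : ℤ} (hQ : ¬ (r : ℤ) ∣ Q) (hrn : orderOf (Q : ZMod r) = n)
    (hrN : ¬ (r : ℤ) ∣ N0) {a : Fin l → ℤ} (ha : IsRoot cs hp.isCartan a) (hac : a c = 0) :
    ∃ L : (Fin l → ℤ) →+ ℤ,
      ¬ (r : ℤ) ∣ ∑ j ∈ Finset.range n, Q ^ (n - j) * L ((rep cs hp.isCartan (cs.wordProd word ^ k) ^ j) a) := by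
  obtain ⟨⟨h1, h2, h3, h4⟩, h5, -, h6, h7⟩ := H
  have hrZ := Nat.prime_iff_prime_int.1 hr
  obtain ⟨v, hv, hvl, rfl⟩ := exists_rootL hp cs ha
  have hbl : (lc l v Bl).length = l := length_lc _ _ h4
  refine ⟨(fn l (lc l v Bl)).toAddMonoidHom, fun h => ?_⟩
  have h8 := eval_gl h1 h3 (rep_single hp cs hA word k h5) hbl Q n v [] hvl
  rw [ofL, Polynomial.eval_zero, mul_zero, add_zero] at h8
  have hn0 : 0 < n := by rw [← hrn]; exact ord_pos hr hQ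
  have h9 : ∑ j ∈ Finset.range n, Q ^ (n - j) *
      (fn l (lc l v Bl)).toAddMonoidHom ((rep cs hp.isCartan (cs.wordProd word ^ k) ^ j) (toFn l v)) =
      Q * (ofL (gl l m (lc l v Bl) n v [])).eval Q := by
    rw [h8, Finset.mul_sum]
    refine Finset.sum_congr rfl fun j hj => ?_
    rw [Finset.mem_range] at hj
    have h10 : Q ^ (n - j) = Q * Q ^ (n - 1 - j) := by
      rw [← pow_succ']
      congr 1
      omega
    rw [h10, mul_assoc]
    rfl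
  rw [h9] at h
  have h10 := (hrZ.dvd_mul.1 h).resolve_left hQ
  obtain ⟨t, ht, hte⟩ := List.mem_map.1 (h6 v hv hac)
  obtain ⟨h11, h12⟩ := h7 t ht
  have h13 := congrArg (fun f => f.eval Q) (ofL_eq_of_eqL h11)
  rw [← hte] at h10
  simp only [ofL_addL, ofL_mulL, Polynomial.eval_add, Polynomial.eval_mul, ofL, Polynomial.eval_C,
    mul_zero, add_zero, ← cyclotomic_eq n hn] at h13
  have h14 := dvd_cyclotomic hr hQ
  rw [hrn] at h14
  apply hrN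
  refine dvd_trans ?_ h12
  rw [← h13]
  exact dvd_add (h10.mul_left _) (h14.mul_left _)

/-- the central torus element of a maximal Levi subgroup -/
theorem exists_cenTor {k : Type u} [Field k] [IsAlgClosed k] {d' : ℕ} {B' : Fin l → Fin l → ℤ} (hB : InvC D l d' B')
    (hd' : d' ≠ 0) {r : ℕ} (hr : (r : k) ≠ 0) (c : Fin l)
    (hc : ∀ b, IsRoot cs hp.isCartan b → b c ≠ 0 → ¬ (r : ℤ) ∣ b c) :
    ∃ t : ↥(D.group k), CenTor hp cs {j | j ≠ c} r t := by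
  obtain ⟨t, ht, -, h1, h2⟩ := exists_torsionL (k := k) hp hB hd' (θ := AddMonoidHom.id _) (q := 1) hr
    (Pi.evalAddMonoidHom (fun _ : Fin l => ℤ) c) (fun x => by
      rw [AddMonoidHom.id_apply, Nat.cast_one, one_mul, sub_self]
      exact dvd_zero _)
  refine ⟨t, ht, h1, fun b hb => (h2 b).2 ?_, fun b hb hb0 h3 => ?_⟩
  · have h4 : b c = 0 := hb.2 c (fun h => h rfl)
    show (r : ℤ) ∣ b c
    rw [h4]
    exact dvd_zero _
  · refine hc b hb ?_ ((h2 b).1 h3)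
    intro h4
    apply hb0
    refine ⟨hb, fun j hj => ?_⟩
    have hjc : j = c := not_not.1 hj
    rw [hjc]
    exact h4

end Gen

theorem relck_E7_4 : RegCkC Cfsg.Lie.chevE7 7 6 alE7 blE7 [0, 1, 2, 3, 4, 5] 3 4
  [[1, 0, 1, 1, 1, 0, 0], [1, 1, 1, 2, 1, 1, 0], [0, 1, 1, 1, 1, 1, 0], [-1, -1, -1, -1, -1, -1, 0],
    [0, 0, -1, -1, 0, 0, 0], [0, -1, 0, -1, -1, 0, 0], [1, 2, 2, 3, 2, 1, 1]]
  [([0, -2, 0, 2], [0, 1], [4, 0, -2], 4), ([1, 0, 1, 2], [0, 1], [2, -1, -2], 2)]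
  4 := by
  decide +kernel

theorem coeff_E7 : ∀ v ∈ rootL Cfsg.Lie.chevE7 7, v.getD 6 0 = 0 ∨ v.getD 6 0 = 1 ∨ v.getD 6 0 = -1 := by
  decide +kernel

/-- **The Levi subgroup `E₆` of `E₇(F)`**, `q` of order `4`. -/
theorem rel_E7_four {F : Type u} [Field F] [Fintype F] {q : ℕ} [hq : Fact q.Prime] (hq2 : q ≠ 2) (hqF : (q : F) ≠ 0)
    (hd : orderOf ((Fintype.card F : ℕ) : ZMod q) = 4) {W : Type*} [Group W] [Finite W]
    (cs : CoxeterSystem CoxeterMatrix.E₇ W) (hp : IsType Cfsg.Lie.chevE7 7 CoxeterMatrix.E₇) {J : Set (Fin 7)}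
    (hJ : (6 : Fin 7) ∉ J) :
    q ∣ (PJ cs hp.isCartan (TT Cfsg.Lie.chevE7 F) (XX Cfsg.Lie.chevE7 7 F) J).index ∨
      reg q (PJ cs hp.isCartan (TT Cfsg.Lie.chevE7 F) (XX Cfsg.Lie.chevE7 7 F) J) ≡
        reg q (PJ cs hp.isCartan (TT Cfsg.Lie.chevE7 F) (XX Cfsg.Lie.chevE7 7 F) {j | j ≠ 6}) [MOD q] := by
  obtain ⟨k, _, _, f, p, hpp, hkp, e, hk, hka, he0, hcF⟩ := H378.TorFin.exists_closure F
  have hcF' : Fintype.card F = p ^ e := by rw [← Nat.card_eq_fintype_card, hcF]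
  have hFp : CharP F p := (RingHom.charP_iff f f.injective p).2 hkp
  have S := setup_untw hp cs hk f he0 hcF' invC_E7 two_ne_zero
  have h1 : (1 : ℤ) = 1 ∨ (1 : ℤ) = -1 := Or.inl rfl
  have hqp : q ≠ p := by
    rintro rfl
    exact hqF (CharP.cast_eq_zero F q)
  have hqd : ¬ q ∣ Nat.gcd 2 (Nat.card F - 1) := by
    intro h
    exact hq2 ((Nat.prime_dvd_prime_iff_eq hq.out Nat.prime_two).1 (h.trans (Nat.gcd_dvd_left _ _)))
  have hQn : orderOf (((1 * (p ^ e : ℕ) : ℤ)) : ZMod q) = 4 := by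
    rw [← hd, hcF']
    push_cast
    rw [one_mul]
  have hQr := not_dvd_Q (p := p) (e := e) Fact.out hq.out hqp h1 rfl
  have hs4 : Small 4 4 := by decide
  have hRn := rep_pow_eq_one hp cs lists_E7 [0, 1, 2, 3, 4, 5] 3 4 relck_E7_4.2.2.1
  have hword : cs.wordProd ([0, 1, 2, 3, 4, 5, 0, 1, 2, 3, 4, 5, 0, 1, 2, 3, 4, 5] : List (Fin 7)) =
      cs.wordProd [0, 1, 2, 3, 4, 5] ^ 3 := by
    rw [pow_succ, pow_succ, pow_one, ← wordProd_append, ← wordProd_append]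
    rfl
  obtain ⟨z, hz⟩ := exists_relTor hp cs (S := S) (J0 := {j | j ≠ 6}) (fun a ha => ha) h1
    (word := [0, 1, 2, 3, 4, 5, 0, 1, 2, 3, 4, 5, 0, 1, 2, 3, 4, 5]) (by decide)
    (R := rep cs hp.isCartan (cs.wordProd [0, 1, 2, 3, 4, 5] ^ 3)) (fun x => by rw [one_smul, hword]; rfl)
    hq.out hqp hqd hq2 rfl hRn ((dvd_pow_sub_one_iff 4).2 (by rw [hQn])) (fun a ha =>
      regAt_of_ckC hp cs (c := 6) lists_E7 relck_E7_4 (by decide) hq.out hQr hQn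
        (hs4.not_dvd (by norm_num) hq.out hq2 (by rw [← hQn]; exact ord_dvd hq.out hQr)) ha.1
        (ha.2 6 (fun h => h rfl)))
  have hqk : (q : k) ≠ 0 := by
    rw [Ne, CharP.cast_eq_zero_iff k p]
    intro h
    exact hqp ((Nat.prime_dvd_prime_iff_eq hpp.out hq.out).1 h).symm
  obtain ⟨t7, h7⟩ := exists_cenTor hp cs (k := k) invC_E7 two_ne_zero hqk 6 (by
    intro b hb hb0 hdv
    obtain ⟨v, hv, -, rfl⟩ := exists_rootL hp cs hb
    have h3 : ¬ (q : ℤ) ∣ 1 := by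
      intro h
      exact hq.out.one_lt.ne' (Nat.dvd_one.1 (by exact_mod_cast h))
    rcases coeff_E7 v hv with h2 | h2 | h2
    · exact hb0 h2
    · rw [show (toFn 7 v) 6 = 1 from h2] at hdv
      exact h3 hdv
    · rw [show (toFn 7 v) 6 = -1 from h2, dvd_neg] at hdv
      exact h3 hdv)
  exact hz.index_or_reg hp cs hqp h7 (fun j hj h => hJ (h ▸ hj))

end Cfsg.Agent.H755.PB
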