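import Cfsg.Agent.H720.RowsSix
import Cfsg.Agent.H80.PB.RealT
import Cfsg.Agent.H169.RealTE6
import Cfsg.Agent.H726.PB.StTwE6

/-!
# S4884: `²E₆(q)`, primes dividing `q⁴ + 1` (helper755)

The Sylow subgroups are cyclic and the elements of prime order `s` are real.
-/

set_option autoImplicit false
set_option linter.unusedSectionVars false
set_option linter.unusedVariables false

namespace Cfsg.Agent.H755.PB

open CoxeterSystem Cfsg Cfsg.Lie Cfsg.Lie.ChevalleyDatum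
open Cfsg.Agent.ChevalleyStructure Cfsg.Agent.ChevalleyStructure.Elts Cfsg.Agent.ChevalleyStructure.CoxeterGeom
  Cfsg.Agent.ChevalleyStructure.CoxeterGeomTypes Cfsg.Agent.ChevalleyStructure.NPerm
open Cfsg.Agent.Tits.Roots Cfsg.Agent.Tits.Core Cfsg.Agent.Nodes Cfsg.Agent.Nodes.Reps Cfsg.Agent.Nodes.BNOf
  Cfsg.Agent.Nodes.RGDChev Cfsg.Agent.Nodes.Bruhat Cfsg.Agent.Nodes.SubComb Cfsg.Agent.Nodes.Coroot
open Cfsg.Agent.KFacts.RgdField Cfsg.Agent.KFacts.RgdChevCoord Cfsg.Agent.BpExc.TorCent Cfsg.Agent.BpExc.TorChev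
open Cfsg.Agent.GpExc.Field Cfsg.Agent.BpExc.Tow Cfsg.Agent.BpExc.TowChev Cfsg.Agent.BpExc.Fr
  Cfsg.Agent.BpExc.LangFr Cfsg.Agent.LangThm Cfsg.Agent.BpExc Cfsg.Agent.H129.TorusChar Cfsg.Agent.H129.TorusCent
  Cfsg.Agent.H129.TorusTw Cfsg.Agent.H129.TorusMain Cfsg.Agent.H129.TorusUntw Cfsg.Agent.H720.TorusReal
  Cfsg.Agent.H722.RealP Cfsg.Agent.H720.RealTw Cfsg.Agent.H130.WeylCk Cfsg.Agent.H130.WeylTab
  Cfsg.Agent.H720.RowsNeg Cfsg.Agent.H720.Functional Cfsg.Agent.H720.RowSix Cfsg.Agent.H720.RowsSix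
open Cfsg.Agent.H706.PB (RowReal)

universe u

theorem zmod3 : ∀ a : ZMod 3, a ^ 4 ≠ -1 := by decide

theorem ck_eight : ∀ i : Fin 6, acn alE6 ([0, 1, 2, 3, 4] : List (Fin 6)) (1 * 8) (bas 6 i) = bas 6 i := by
  decide +kernel

section Main

variable (hp : IsType chevE6 6 CoxeterMatrix.E₆) {k : Type u} [Field k]
  {W : Type*} [Group W] (cs : CoxeterSystem CoxeterMatrix.E₆ W) {p e : ℕ} [Fact p.Prime] [CharP k p]
  {σ : MulAut ↥(chevE6.group k)} {g : (Fin 6 → ℤ) ≃+ (Fin 6 → ℤ)}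
  [IsAlgClosed k] [Finite W] (hk : LocFin k) (he : 0 < e) (hσ : IsFrob p e σ)
  (F : Fr cs hp.isCartan (TT chevE6 k) (XX chevE6 6 k) σ g) (hN : NSys CoxeterMatrix.E₆ (TT chevE6 k) (nc hp k))
  {G0 : Type*} [Group G0] [Finite G0] {e0 : G0 →* ↥(chevE6.group k)} (he0 : Function.Injective e0)
  {m : ℕ} {ε : ℤ} (hε : ε * ε = 1)
  (hvg : ∀ v : W, ∃ w : W, ∀ x, theta hp cs w g x = ε • rep cs hp.isCartan v x)
  (hdesc : ∀ y : ↥(chevE6.group k), σ y = y → y ^ m ∈ e0.range)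

include hk he hσ F hN he0 hε hvg hdesc in
/-- **the case `d = 8`** -/
theorem cyc_eight {s : ℕ} (hs : s.Prime) (hsp : s ≠ p) (hms : m.Coprime s)
    (hcard : (Nat.card G0 : ℤ) ∣ ((p ^ e : ℕ) : ℤ) ^ 36 * (degs6.map (fun i => (ε * (p ^ e : ℕ)) ^ i - 1)).prod)
    (hd : orderOf (((ε * (p ^ e : ℕ) : ℤ)) : ZMod s) = 8) :
    ∃ x : G0, orderOf x = s ^ (Nat.card G0).factorization s := by
  have hsf : Fact s.Prime := ⟨hs⟩
  set Q : ℤ := ε * (p ^ e : ℕ) with hQdef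
  have hsi : Prime (s : ℤ) := Nat.prime_iff_prime_int.1 hs
  have hpe : ¬ (s : ℤ) ∣ ((p ^ e : ℕ) : ℤ) := by
    intro h
    have h1 : s ∣ p ^ e := by exact_mod_cast h
    exact hsp ((Nat.prime_dvd_prime_iff_eq hs Fact.out).1 (hs.dvd_of_dvd_pow h1))
  have hεs : ¬ (s : ℤ) ∣ ε := by
    intro h
    have h1 := h.mul_right ε
    rw [hε] at h1
    exact hsi.not_isUnit (isUnit_of_dvd_one h1)
  have hQs : ¬ (s : ℤ) ∣ Q := by
    intro h
    rcases hsi.dvd_or_dvd h with h | h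
    · exact hεs h
    · exact hpe h
  have hdvd : ∀ i : ℕ, (s : ℤ) ∣ Q ^ i - 1 ↔ 8 ∣ i := fun i => by rw [← hd]; exact dvd_sub_one_iff i
  have hQi : ∀ i : ℕ, ¬ 8 ∣ i → ¬ (s : ℤ) ∣ Q ^ i - 1 := fun i h1 h2 => h1 ((hdvd i).1 h2)
  have hco : ∀ a : ℤ, ¬ (s : ℤ) ∣ a → IsCoprime ((s ^ (Nat.card G0).factorization s : ℕ) : ℤ) a := by
    intro a ha
    rw [Nat.cast_pow]
    exact IsCoprime.pow_left ((Prime.coprime_iff_not_dvd hsi).2 ha)
  have h5 : ((s ^ (Nat.card G0).factorization s : ℕ) : ℤ) ∣ Q ^ 8 - 1 := by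
    have h1 : ((s ^ (Nat.card G0).factorization s : ℕ) : ℤ) ∣
        ((p ^ e : ℕ) : ℤ) ^ 36 * (degs6.map (fun i => Q ^ i - 1)).prod :=
      (Int.natCast_dvd_natCast.2 (Nat.ordProj_dvd _ _)).trans hcard
    have h2 := (hco _ (fun h => hpe (hsi.dvd_of_dvd_pow h))).dvd_of_dvd_mul_left h1
    rw [prod_degs] at h2
    have h3 : (Q ^ 2 - 1) * (Q ^ 5 - 1) * (Q ^ 6 - 1) * (Q ^ 8 - 1) * (Q ^ 9 - 1) * (Q ^ 12 - 1) =
        ((Q ^ 2 - 1) * ((Q ^ 5 - 1) * ((Q ^ 6 - 1) * ((Q ^ 9 - 1) * (Q ^ 12 - 1))))) * (Q ^ 8 - 1) := by ring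
    rw [h3] at h2
    exact ((hco _ (hQi 2 (by decide))).mul_right ((hco _ (hQi 5 (by decide))).mul_right
      ((hco _ (hQi 6 (by decide))).mul_right ((hco _ (hQi 9 (by decide))).mul_right
        (hco _ (hQi 12 (by decide))))))).dvd_of_dvd_mul_left h2
  have hs0 : s ^ (Nat.card G0).factorization s ≠ 0 := pow_ne_zero _ hs.ne_zero
  have hsp' : (s ^ (Nat.card G0).factorization s).Coprime p :=
    Nat.Coprime.pow_left _ ((Nat.coprime_primes hs Fact.out).2 hsp)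
  have hms' : m.Coprime (s ^ (Nat.card G0).factorization s) := hms.pow_right _
  refine cyc_large hp cs hk he hσ F hN he0 hε hvg hdesc hs0 hsp' hms' (L := [0, 1, 2, 3, 4]) (d := 8) (by norm_num)
    ck_eight (((Int.modEq_iff_dvd).2 h5).symm) (lam := [1, 0, 0, 0, 0, 0]) (x₀ := [0, 1, 0, 0, 0, 0]) rfl rfl ?_
  have h2 : ∑ j ∈ Finset.range 8, Q ^ (8 - j) * dot [1, 0, 0, 0, 0, 0]
      (acn alE6 ([0, 1, 2, 3, 4] : List (Fin 6)) (1 * j) [0, 1, 0, 0, 0, 0]) = Q ^ 3 * (Q ^ 4 - 1) := by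
    have e : ∀ j : Fin 8, dot [1, 0, 0, 0, 0, 0] (acn alE6 ([0, 1, 2, 3, 4] : List (Fin 6)) (1 * j)
        [0, 1, 0, 0, 0, 0]) = ![0, 1, 0, 0, 0, -1, 0, 0] j := by
      decide +kernel
    have e' : ∀ (j : ℕ) (hj : j < 8), dot [1, 0, 0, 0, 0, 0] (acn alE6 ([0, 1, 2, 3, 4] : List (Fin 6)) (1 * j)
        [0, 1, 0, 0, 0, 0]) = ![0, 1, 0, 0, 0, -1, 0, 0] (⟨j, hj⟩ : Fin 8) := fun j hj => e ⟨j, hj⟩
    simp only [Finset.sum_range_succ, Finset.sum_range_zero]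
    rw [e' 0 (by norm_num), e' 1 (by norm_num), e' 2 (by norm_num), e' 3 (by norm_num), e' 4 (by norm_num),
      e' 5 (by norm_num), e' 6 (by norm_num), e' 7 (by norm_num)]
    show 0 + Q ^ (8 - 0) * 0 + Q ^ (8 - 1) * 1 + Q ^ (8 - 2) * 0 + Q ^ (8 - 3) * 0 + Q ^ (8 - 4) * 0 +
      Q ^ (8 - 5) * (-1) + Q ^ (8 - 6) * 0 + Q ^ (8 - 7) * 0 = _
    ring
  rw [h2]
  refine hco _ fun h3 => ?_
  rcases hsi.dvd_or_dvd h3 with h4 | h4
  · exact hQs (hsi.dvd_of_dvd_pow h4)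
  · exact hQi 4 (by decide) h4

end Main

/-- **`²E₆(q)`, `s ∣ q⁴ + 1`**: a cyclic subgroup of order `|G|_s`. -/
theorem TwE6_eight {K : Type u} [Field K] [Fintype K] {q : ℕ} (hq : IsPrimePow q) (hK : Fintype.card K = q ^ 2) {s : ℕ}
    (hs : s.Prime) (hs2 : s ≠ 2) (h8 : s ∣ q ^ 4 + 1) :
    ∃ x : ↥(twistedE6 K q), orderOf x = s ^ (Nat.card ↥(twistedE6 K q)).factorization s := by
  have hcard := Cfsg.Agent.S1066.result hq hK
  obtain ⟨p, n, hpF, hpc, hpk, hn, rfl, hk, hA⟩ := Cfsg.Agent.H720.RowTriD4.exists_closure_pow two_ne_zero hq hK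
  have cs := CoxeterMatrix.E₆.toCoxeterSystem
  have hp := Cfsg.Agent.H720.TwFr.hp6
  have : Finite CoxeterMatrix.E₆.Group := finite_W hp cs
  have hsf : Fact s.Prime := ⟨hs⟩
  have hsq : ¬ s ∣ p ^ n := by
    intro h
    have h1 : s ∣ (p ^ n) ^ 4 := h.trans (dvd_pow_self _ (by norm_num))
    have h2 := (Nat.dvd_add_right h1).1 h8
    exact hs.one_lt.ne' (Nat.dvd_one.1 h2)
  have hsp : s ≠ p := fun h => hsq (by rw [h]; exact dvd_pow_self p hn.ne')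
  have hq1 : 1 < p ^ n := Nat.one_lt_pow hn.ne' hpF.out.one_lt
  have h4 : (((-1 * ((p ^ n : ℕ) : ℤ) : ℤ)) : ZMod s) ^ 4 = -1 := by
    have h1 : ((((p ^ n) ^ 4 + 1 : ℕ)) : ZMod s) = 0 := (ZMod.natCast_eq_zero_iff _ _).2 h8
    push_cast at h1
    push_cast
    have h2 : (-1 * (p : ZMod s) ^ n) ^ 4 = ((p : ZMod s) ^ n) ^ 4 := by ring
    rw [h2]
    exact eq_neg_of_add_eq_zero_left h1
  have hne : (-1 : ZMod s) ≠ 1 := by
    intro h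
    have h1 : ((2 : ℕ) : ZMod s) = 0 := by
      push_cast
      have h2 : (2 : ZMod s) = 1 - (-1) := by ring
      rw [h2, h, sub_self]
    rw [ZMod.natCast_eq_zero_iff] at h1
    exact hs2 ((Nat.prime_dvd_prime_iff_eq hs Nat.prime_two).1 h1)
  have hord : orderOf (((-1 * ((p ^ n : ℕ) : ℤ) : ℤ)) : ZMod s) = 8 := by
    have h1 : orderOf (((-1 * ((p ^ n : ℕ) : ℤ) : ℤ)) : ZMod s) = 2 ^ (2 + 1) := by
      refine orderOf_eq_prime_pow ?_ ?_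
      · rw [show 2 ^ 2 = 4 by norm_num, h4]
        exact hne
      · rw [show 2 ^ (2 + 1) = 4 * 2 by norm_num, pow_mul, h4]
        ring
    rw [h1]
    norm_num
  have hs3 : s ≠ 3 := by
    rintro rfl
    exact zmod3 _ h4
  -- `-g` is in the Weyl group
  have hw0 : ∀ x, rep cs hp.isCartan (cs.wordProd [1, 2, 4, 0, 3, 5] ^ 6) x = -(Cfsg.Agent.H720.TwFr.permE Cfsg.Agent.H720.TwFr.rho6 x) := by
    intro x
    have h1 : ∀ x, rep cs hp.isCartan (cs.wordProd [1, 2, 4, 0, 3, 5] ^ 6) x =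
        (-(Cfsg.Agent.H720.TwFr.permE Cfsg.Agent.H720.TwFr.rho6).toAddMonoidHom.toIntLinearMap) x := by
      refine eq_of_sr fun i => ?_
      rw [rep_word lists_E6 cs hp.isCartan _ _ i, ck_w0, toFn_smul, toFn_bas, neg_smul, one_smul]
      show -(Pi.single (Cfsg.Agent.H720.TwFr.rho6 i) 1 : Fin 6 → ℤ) = -(fun j => (sr i : Fin 6 → ℤ) (Cfsg.Agent.H720.TwFr.rho6.symm j))
      congr 1
      funext j
      revert i j
      decide
    exact h1 x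
  set w₀ := cs.wordProd [1, 2, 4, 0, 3, 5] ^ 6 with hw₀def
  have hth : ∀ (w : CoxeterMatrix.E₆.Group) x, theta hp cs w (Cfsg.Agent.H720.TwFr.permE Cfsg.Agent.H720.TwFr.rho6) x =
      (-1 : ℤ) • rep cs hp.isCartan (w * w₀) x := by
    intro w x
    rw [theta_apply, rep_mul_apply, hw0, map_neg, neg_smul, one_smul, neg_neg]
  have hgcd : (Nat.gcd 3 (p ^ n + 1)) ∣ 3 := Nat.gcd_dvd_left _ _
  refine cyc_eight hp cs hk hn (Cfsg.Agent.H720.TwFr.isFrob_sig6 p n) (Cfsg.Agent.H720.TwFr.fr_sig6 hk p hp cs n) (nsys_of_locFin hp cs hk p)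
    (Cfsg.Agent.BpExc.FamTw.Six.em_injective (algebraMap K (AlgebraicClosure K)))
    (m := Nat.gcd 3 (p ^ n + 1)) (ε := -1) (by norm_num) (fun v => ⟨v * w₀⁻¹, fun x => by
      rw [hth, inv_mul_cancel_right]⟩)
    (fun y hy => Cfsg.Agent.H720.TwFr.desc6 _ p hk hn rfl hK hy) hs hsp ?_ ?_ hord
  · exact Nat.Coprime.coprime_dvd_left hgcd ((Nat.coprime_primes Nat.prime_three hs).2 (Ne.symm hs3))
  · rw [prod_degs]
    set q := p ^ n with hqdef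
    have h1 : ∀ i : ℕ, ((q : ℕ) : ℤ) ^ i - 1 = ((q ^ i - 1 : ℕ) : ℤ) := by
      intro i
      rw [Nat.cast_sub (Nat.one_le_pow _ _ (by omega))]
      push_cast
      ring
    have h2 : ((-1 * (q : ℤ)) ^ 2 - 1) * ((-1 * (q : ℤ)) ^ 5 - 1) * ((-1 * (q : ℤ)) ^ 6 - 1) *
        ((-1 * (q : ℤ)) ^ 8 - 1) * ((-1 * (q : ℤ)) ^ 9 - 1) * ((-1 * (q : ℤ)) ^ 12 - 1) =
        ((q : ℤ) ^ 2 - 1) * ((q : ℤ) ^ 5 + 1) * ((q : ℤ) ^ 6 - 1) * ((q : ℤ) ^ 8 - 1) * ((q : ℤ) ^ 9 + 1) *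
        ((q : ℤ) ^ 12 - 1) := by ring
    rw [h2, h1, h1, h1, h1]
    have h3 : Nat.card ↥(twistedE6 K q) ∣ q ^ 36 * ((q ^ 2 - 1) * (q ^ 5 + 1) * (q ^ 6 - 1) *
        (q ^ 8 - 1) * (q ^ 9 + 1) * (q ^ 12 - 1)) := by
      refine (Dvd.intro_left _ hcard).trans (dvd_of_eq ?_)
      ring
    exact_mod_cast h3

/-- **Elements of order `s` are real.** -/
theorem TwE6_real {K : Type} [Field K] [Fintype K] {q r n p : ℕ} [Fact r.Prime] [CharP K r] [Fact p.Prime]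
    (hpr : p ≠ r) (hn0 : 0 < n) (hn : q = r ^ n) (hK : Fintype.card K = q ^ 2)
    (hd : p ∣ Nat.card ↥(twistedE6 K q)) (h8 : p ∣ q ^ 4 + 1) :
    ∃ z : ↥(twistedE6 K q), p ∣ orderOf z ∧ IsConj z z⁻¹ := by
  obtain ⟨z, hz⟩ := exists_prime_orderOf_dvd_card' p hd
  have hz1 : z ^ p = 1 := by rw [← hz]; exact pow_orderOf_eq_one z
  refine ⟨z, by rw [hz], ?_⟩
  have hu : (-(q : ZMod p)) ^ 4 = -1 := by
    have h1 : (((q ^ 4 + 1 : ℕ)) : ZMod p) = 0 := (ZMod.natCast_eq_zero_iff _ _).2 h8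
    push_cast at h1
    rw [Even.neg_pow (by decide)]
    exact eq_neg_of_add_eq_zero_left h1
  obtain ⟨y, hy⟩ := isConj_iff.1 (Cfsg.Agent.H696.GmnTwE6.isConj_tw hpr hn0 hn hK hz1)
  have h1 := Cfsg.Agent.H696.GmnUntw.conj_iter (x := z) (y := y⁻¹) (by rw [inv_inv]; exact hy) 4
  have hodd : Odd (Nat.gcd 3 (q + 1)) := by
    have h1 : Nat.gcd 3 (q + 1) ∣ 3 := Nat.gcd_dvd_left _ _
    rcases (Nat.dvd_prime Nat.prime_three).1 h1 with h2 | h2 <;> rw [h2] <;> decide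
  have h2 : z ^ (((-(q : ℤ)) ^ Nat.gcd 3 (q + 1)) ^ 4) = z⁻¹ := by
    rw [← zpow_neg_one, zpow_eq_zpow_iff_modEq, hz, ← ZMod.intCast_eq_intCast_iff]
    push_cast
    rw [← pow_mul, mul_comm, pow_mul, hu, hodd.neg_one_pow]
  rw [h2] at h1
  rw [isConj_iff]
  exact ⟨((y⁻¹) ^ 4)⁻¹, by rw [inv_inv]; exact h1⟩

/-- a Sylow subgroup of the order of an element is cyclic -/
theorem isCyclic_of_orderOf {G : Type*} [Group G] [Finite G] {p : ℕ} [hp : Fact p.Prime] {x : G}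
    (hx : orderOf x = p ^ (Nat.card G).factorization p) (P : Sylow p G) : IsCyclic (P : Subgroup G) := by
  have h1 : Nat.card ↥(Subgroup.zpowers x) = p ^ (Nat.card G).factorization p := by
    rw [Nat.card_zpowers, hx]
  let P₁ : Sylow p G := Sylow.ofCard (Subgroup.zpowers x) h1
  have h2 : IsCyclic P₁ := (inferInstance : IsCyclic ↥(Subgroup.zpowers x))
  exact (P₁.equiv P).isCyclic.1 h2

/-- **`²E₆(q)`, `p ∣ q⁴ + 1`.** -/
theorem real_2E6_eight {p : ℕ} [hp : Fact p.Prime] (hp2 : p ≠ 2) {K : Type} [Field K] [Fintype K] {q : ℕ}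
    (hpK : (p : K) ≠ 0) (hq : IsPrimePow q) (hK : Fintype.card K = q ^ 2) (hpS : p ∣ Nat.card ↥(twistedE6 K q))
    (h4 : p ∣ q ^ 4 + 1) : RowReal p ↥(twistedE6 K q) := by
  obtain ⟨r, hrK⟩ := CharP.exists K
  have hrp : r.Prime := CharP.char_is_prime K r
  have : Fact r.Prime := ⟨hrp⟩
  obtain ⟨m, -, hm⟩ := FiniteField.card K r
  obtain ⟨r', n, hr', hn0, hn⟩ := (isPrimePow_nat_iff _).1 hq
  have hrr : r' = r := by
    have h1 : r' ∣ r ^ (m : ℕ) := by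
      rw [← hm, hK, ← hn]
      exact dvd_pow (dvd_pow_self _ hn0.ne') (by norm_num)
    exact (Nat.prime_dvd_prime_iff_eq hr' hrp).1 (hr'.dvd_of_dvd_pow h1)
  subst hrr
  have hpr : p ≠ r' := by
    rintro rfl
    exact hpK (CharP.cast_eq_zero K p)
  obtain ⟨z, hz, hzc⟩ := TwE6_real hpr hn0 hn.symm hK hpS h4
  obtain ⟨x, hx⟩ := TwE6_eight hq hK hp.out hp2 h4
  obtain ⟨P⟩ : Nonempty (Sylow p ↥(twistedE6 K q)) := inferInstance
  exact H80.PB.RowReal.of_cyclic P (isCyclic_of_orderOf hx P) hz hzc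

/-- **all primes but the divisors of `q⁵ + 1` not dividing `q + 1`** -/
theorem real_2E6_all {p : ℕ} [hp : Fact p.Prime] (hp2 : p ≠ 2) {K : Type} [Field K] [Fintype K] {q : ℕ}
    (hpK : (p : K) ≠ 0) (h2K : (2 : K) ≠ 0) (hq : IsPrimePow q) (hK : Fintype.card K = q ^ 2)
    (hpS : p ∣ Nat.card ↥(twistedE6 K q)) (h5 : p ∣ q ^ 5 + 1 → p ∣ q + 1) : RowReal p ↥(twistedE6 K q) := by
  by_cases h4 : p ∣ q ^ 4 + 1
  · exact real_2E6_eight hp2 hpK hq hK hpS h4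
  · exact H726.PB.real_2E6 hp2 hpK h2K hq hK hpS h4 h5

end Cfsg.Agent.H755.PB
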