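import Cfsg.Agent.H755.PB.RegC
import Cfsg.Agent.H755.PB.TwEight

/-!
# S4884: the rows `e6`, `te6` up to the orders `5`, `10` (helper755)
-/

set_option autoImplicit false

namespace Cfsg.Agent.H755.PB

open Cfsg Cfsg.Lie Cfsg.Agent.H116.RatB0
open Cfsg.Agent.H706.PB (RowReal)

/-- **`E₆(q)`**: all orders but `5`. -/
theorem real_E6_all {F : Type} [Field F] [Fintype F] {p : ℕ} [hp : Fact p.Prime] (hp2 : p ≠ 2) (hpF : (p : F) ≠ 0)
    (h2F : (2 : F) ≠ 0) (hG : p ∣ Nat.card ↥(chevE6.group F))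
    (h5 : orderOf ((Fintype.card F : ℕ) : ZMod p) ≠ 5) : RowReal p ↥(chevE6.group F) := by
  have h2 := ord_mem_E6 hpF hG
  by_cases h1 : orderOf ((Fintype.card F : ℕ) : ZMod p) = 1
  · exact H726.PB.real_one_E6 h2F hp2 (dvd_of_ord_one Fintype.card_pos h1)
  by_cases h3 : orderOf ((Fintype.card F : ℕ) : ZMod p) ∈ [2, 4, 8]
  · exact real_E6_reg hp2 hpF h2F h3
  refine H726.PB.real_E6_of_dvd hpF h2F (m := orderOf ((Fintype.card F : ℕ) : ZMod p)) ?_ (dvd_E (not_dvd_card hpF))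
  clear hG
  generalize orderOf ((Fintype.card F : ℕ) : ZMod p) = d at h1 h2 h3 h5
  revert h1 h3 h5
  revert d
  decide

end Cfsg.Agent.H755.PB
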