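import Cfsg.Agent.H949.PB.Idx
import Cfsg.Agent.H54.PB.Three
import Cfsg.Agent.H755.PB.RelC

/-!
# S4884: the Steinberg character of `E₇(r)`, `q ∣ r² + 1`, is not in the principal `q`-block (helper755)

`sum_all_zero` : the sum of the Steinberg character over the `q`-regular elements is `0`.
-/

set_option autoImplicit false
set_option linter.unusedSectionVars false
set_option linter.unusedVariables false

namespace Cfsg.Agent.H755.PB

open CoxeterSystem Cfsg Cfsg.Lie Cfsg.Lie.ChevalleyDatum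
open Cfsg.Agent.ChevalleyStructure Cfsg.Agent.ChevalleyStructure.CoxeterGeom
  Cfsg.Agent.ChevalleyStructure.CoxeterGeomTypes Cfsg.Agent.ChevalleyStructure.NPerm
open Cfsg.Agent.Tits.Roots Cfsg.Agent.Tits.Core Cfsg.Agent.Nodes Cfsg.Agent.Nodes.Reps Cfsg.Agent.Nodes.BNOf
  Cfsg.Agent.Nodes.RGDChev Cfsg.Agent.Nodes.Bruhat Cfsg.Agent.Nodes.LeviDec Cfsg.Agent.Nodes.StabComb
  Cfsg.Agent.Nodes.Unique Cfsg.Agent.Nodes.CardSup
open Cfsg.Agent.H116.RatB0 Cfsg.Agent.Blocks Cfsg.Agent.Blocks.Blau Cfsg.Agent.H35.ExcIdx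
open Cfsg.Agent.H630.Exc (rootL exists_rootL)
open Cfsg.Agent.H130.WeylCk (toFn)

universe u v

section Blocks

variable {G : Type u} [Group G] [Finite G] {q : ℕ} [hq : Fact q.Prime] {M : Ideal AlgInt}

/-- a character vanishing at an element centralized by a Sylow subgroup is not in the principal block -/
theorem not_mem_of_zero (hM : IsPModular q M) {χ : IrrCharacter G} {u : G} (hu : (χ : G → ℂ) u = 0)
    {Q : Sylow q G} (hQ : ∀ x ∈ (Q : Subgroup G), x * u = u * x) : χ ∉ principalBlock M G := by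
  intro h
  have h1 : MemLocalIdeal M (centralChar (fun _ : G => (1 : ℂ)) u - centralChar (χ : G → ℂ) u) := h u
  have h2 : centralChar (χ : G → ℂ) u = 0 := by rw [centralChar, hu, mul_zero, zero_div]
  have h3 : centralChar (fun _ : G => (1 : ℂ)) u = ((Subgroup.centralizer ({u} : Set G)).index : ℂ) := by
    rw [centralChar, mul_one, div_one]
  rw [h2, h3, sub_zero, Blocks.Local.memLocalIdeal_natCast_iff hM] at h1
  have h4 : (Q : Subgroup G) ≤ Subgroup.centralizer ({u} : Set G) := fun x hx => by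
    rw [Subgroup.mem_centralizer_singleton_iff]
    exact hQ x hx
  have h5 := (Subgroup.index_dvd_of_le h4)
  exact Q.not_dvd_index (h1.trans h5)

/-- a fixed point of a Sylow subgroup in a normal subgroup -/
theorem exists_fixed {P V : Subgroup G} (hVP : ∀ x ∈ P, ∀ v ∈ V, x * v * x⁻¹ ∈ V)
    (hidx : ¬ q ∣ P.index) (hV : ¬ Nat.card V ≡ 1 [MOD q]) :
    ∃ (Q : Sylow q G) (u : G), u ∈ V ∧ u ≠ 1 ∧ ∀ x ∈ (Q : Subgroup G), x * u = u * x := by
  -- a Sylow subgroup of `P`
  obtain ⟨Q0⟩ : Nonempty (Sylow q P) := inferInstance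
  have h1 : ¬ q ∣ ((Q0 : Subgroup P).map P.subtype).index := by
    rw [Subgroup.index_map_subtype]
    intro h
    rcases hq.out.dvd_mul.1 h with h | h
    · exact Q0.not_dvd_index h
    · exact hidx h
  have h2 : IsPGroup q ((Q0 : Subgroup P).map P.subtype) := Q0.isPGroup'.map _
  let Q : Sylow q G := h2.toSylow h1
  have hQP : (Q : Subgroup G) ≤ P := by
    rintro _ ⟨x, -, rfl⟩
    exact x.2
  have hQ : IsPGroup q (Q : Subgroup G) := Q.isPGroup'
  let act : MulAction (Q : Subgroup G) V :=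
    { smul := fun a v => ⟨(a : G) * v.1 * (a : G)⁻¹, hVP a (hQP a.2) _ v.2⟩
      one_smul := fun v => Subtype.ext (by
        show ((1 : (Q : Subgroup G)) : G) * v.1 * ((1 : (Q : Subgroup G)) : G)⁻¹ = v.1
        rw [Subgroup.coe_one]; group)
      mul_smul := fun a b v => Subtype.ext (by
        show ((a * b : (Q : Subgroup G)) : G) * v.1 * ((a * b : (Q : Subgroup G)) : G)⁻¹ =
          (a : G) * ((b : G) * v.1 * (b : G)⁻¹) * (a : G)⁻¹
        rw [Subgroup.coe_mul]; group) }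
  have h3 := hQ.card_modEq_card_fixedPoints V
  by_contra hcon
  push Not at hcon
  apply hV
  refine h3.trans ?_
  have h4 : Nat.card (MulAction.fixedPoints (Q : Subgroup G) V) = 1 := by
    rw [Nat.card_eq_one_iff_unique]
    refine ⟨⟨fun a b => ?_⟩, ⟨⟨1, fun a => Subtype.ext (by
      show (a : G) * (1 : V).1 * (a : G)⁻¹ = 1
      rw [Subgroup.coe_one]; group)⟩⟩⟩
    have key : ∀ c : MulAction.fixedPoints (Q : Subgroup G) V, (c.1 : G) = 1 := by
      rintro ⟨c, hc⟩
      by_contra h5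
      obtain ⟨x, hx, hx'⟩ := hcon Q c.1 c.2 h5
      apply hx'
      have h6 : x * c.1 * x⁻¹ = c.1 := congrArg Subtype.val (hc ⟨x, hx⟩)
      calc x * c.1 = x * c.1 * x⁻¹ * x := by group
        _ = c.1 * x := by rw [h6]
    exact Subtype.ext (Subtype.ext ((key a).trans (key b).symm))
  rw [h4]

end Blocks

section StU

variable {I W : Type*} {S : Type u} [Fintype I] [DecidableEq I] [Group W] [Group S] {M : CoxeterMatrix I}
  {cs : CoxeterSystem M W} {A : I → I → ℤ} {h : IsCartan M A} {r : ℕ} {T : Subgroup S} {n : I → S}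
  {X : (I → ℤ) → Subgroup S} (R : RGD cs h r T n X)

include R

/-- the Steinberg character vanishes on the nontrivial elements of `U` -/
theorem st_unip [Finite W] [Finite S] (hG : GG cs h T X = ⊤) {u : S} (hu : u ∈ RGD.Sup X (RGD.Pos cs h)) (hu1 : u ≠ 1) :
    (∑ K ∈ (Finset.univ : Finset I).powerset, (-1 : ℂ) ^ K.card *
      fixedPointCharacter (PJ cs h T X (K : Set I)) u) = 0 := by
  obtain ⟨-, h2⟩ := H167.AltRGD.exists_char_alt R (hgen_of_GG R hG)
  have h3 := h2 u (RGD.U_le_B hu)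
  simp only [sup_eq_PJ R hG] at h3
  rw [h3]
  have h4 : IsEmpty {v : RGD.Sup X (RGD.Pos cs h) // (v : S)⁻¹ * u * v ∈ T} := by
    constructor
    rintro ⟨v, hv⟩
    have h5 : (v : S)⁻¹ * u * v ∈ RGD.Sup X (RGD.Pos cs h) := mul_mem (mul_mem (inv_mem v.2) hu) v.2
    have h6 : (v : S)⁻¹ * u * v = 1 := by
      have h7 : orderOf ((v : S)⁻¹ * u * v) ∣ Nat.card T := by
        have := orderOf_dvd_natCard (⟨_, hv⟩ : T)
        rwa [Subgroup.orderOf_mk] at this
      obtain ⟨m, hm⟩ := (R.isPGroup_Upos (cs := cs)) ⟨_, h5⟩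
      have h8 : orderOf ((v : S)⁻¹ * u * v) ∣ r ^ m := orderOf_dvd_of_pow_eq_one (congrArg Subtype.val hm)
      exact orderOf_eq_one_iff.1 (Nat.dvd_one.1 ((R.tcop.pow_right m) ▸ Nat.dvd_gcd h7 h8))
    apply hu1
    calc u = (v : S) * ((v : S)⁻¹ * u * v) * (v : S)⁻¹ := by group
      _ = 1 := by rw [h6]; group
  rw [Nat.card_of_isEmpty, Nat.cast_zero]

end StU

section Main

variable (F : Type u) [Field F] [Fintype F]

theorem card_filter_E7 : (((rootL chevE7 7).filter fun v => v.getD 6 0 = 1).map (toFn 7)).toFinset.card = 27 := by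
  decide +kernel

theorem card_VJ_E7 : Nat.card (VJ CoxeterMatrix.E₇.toCoxeterSystem hpE7.isCartan (XX chevE7 7 F) {j | j ≠ 6}) =
    Fintype.card F ^ 27 := by
  classical
  obtain ⟨p, hpF⟩ := CharP.exists F
  have hpp : Fact p.Prime := ⟨CharP.char_is_prime F p⟩
  have hfin := finite_W hpE7 CoxeterMatrix.E₇.toCoxeterSystem
  have R := rgd (K := F) hpE7 CoxeterMatrix.E₇.toCoxeterSystem p
  set s : Finset (Fin 7 → ℤ) := (((rootL chevE7 7).filter fun v => v.getD 6 0 = 1).map (toFn 7)).toFinset with hs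
  have hmem : ∀ a, a ∈ s ↔ IsRoot CoxeterMatrix.E₇.toCoxeterSystem hpE7.isCartan a ∧ a 6 = 1 := by
    intro a
    rw [hs, List.mem_toFinset, List.mem_map]
    constructor
    · rintro ⟨v, hv, rfl⟩
      rw [List.mem_filter] at hv
      obtain ⟨hv1, hv2⟩ := hv
      refine ⟨?_, of_decide_eq_true hv2⟩
      obtain ⟨r, hr, e⟩ := List.mem_map.1 hv1
      rw [List.mem_range] at hr
      have h1 : toFn 7 v = vec chevE7 7 r := by
        rw [← e]
        funext j
        show ((List.finRange 7).map (vec chevE7 7 r)).getD j 0 = _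
        rw [List.getD_eq_getElem _ _ (by rw [List.length_map, List.length_finRange]; exact j.2), List.getElem_map,
          List.getElem_finRange]
        rfl
      rw [h1]
      exact (isRoot_iff hpE7 _ _).2 ⟨r, hr, rfl⟩
    · rintro ⟨ha, ha6⟩
      obtain ⟨v, hv, -, rfl⟩ := exists_rootL hpE7 _ ha
      exact ⟨v, List.mem_filter.2 ⟨hv, decide_eq_true ha6⟩, rfl⟩
  have hsc : (s : Set (Fin 7 → ℤ)) = NotJ CoxeterMatrix.E₇.toCoxeterSystem hpE7.isCartan {j | j ≠ 6} := by
    ext a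
    rw [Finset.mem_coe, hmem]
    constructor
    · rintro ⟨h1, h2⟩
      have h3 : 0 < a 6 := by rw [h2]; norm_num
      exact ⟨h1, nonneg_of_pos_apply h1 h3, 6, fun h => h rfl, h3⟩
    · rintro ⟨h1, h2, k, hk, hk0⟩
      have hk6 : k = 6 := not_not.1 hk
      subst hk6
      refine ⟨h1, ?_⟩
      obtain ⟨v, hv, -, rfl⟩ := exists_rootL hpE7 _ h1
      rcases coeff_E7 v hv with h4 | h4 | h4
      · rw [show (toFn 7 v) 6 = 0 from h4] at hk0
        exact absurd hk0 (lt_irrefl _)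
      · exact h4
      · rw [show (toFn 7 v) 6 = -1 from h4] at hk0
        norm_num at hk0
  have hcl : Closed CoxeterMatrix.E₇.toCoxeterSystem hpE7.isCartan
      (NotJ CoxeterMatrix.E₇.toCoxeterSystem hpE7.isCartan {j | j ≠ 6}) := by
    intro x hx y hy z hz
    obtain ⟨hxr, hx0, k, hk, hk0⟩ := hx
    exact ⟨hz.1, RGD.nonneg_of_btwn hx0 hy.2.1 hz, k, hk, btwn_apply_pos hz hk0 (hy.2.1 k)⟩
  have h3 := card_sup R (s := s) (by rw [hsc]; exact fun x hx => ⟨hx.1, hx.2.1⟩) (by rw [hsc]; exact hcl)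
  rw [hsc] at h3
  refine h3.trans ?_
  rw [← card_filter_E7, ← hs, ← Finset.prod_const]
  refine Finset.prod_congr rfl fun x hx => ?_
  rw [← Nat.card_eq_fintype_card]
  exact card_XX hpE7 F _ ((hmem x).1 hx).1

open Cfsg.Agent.H949.PB (P7 E6_ne sq_eq)

/-- **The Steinberg character of `E₇(F)` is not in the principal `q`-block**, `q` of order `4`: the sum over the
`q`-regular elements is `0`. -/
theorem sum_all_zero {F : Type u} [Field F] [Fintype F] {q : ℕ} [hq : Fact q.Prime] (hq2 : q ≠ 2) (hqF : (q : F) ≠ 0)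
    (h4 : orderOf ((Fintype.card F : ℕ) : ZMod q) = 4) :
    ∑ K : Finset (Fin 7), (-1 : ℤ) ^ K.card *
      (((P7 F (K : Set (Fin 7))).index * reg q (P7 F (K : Set (Fin 7))) : ℕ) : ℤ) = 0 := by
  classical
  obtain ⟨p, hpF⟩ := CharP.exists F
  have hpp : Fact p.Prime := ⟨CharP.char_is_prime F p⟩
  have hfin := finite_W hpE7 CoxeterMatrix.E₇.toCoxeterSystem
  have R := rgd (K := F) hpE7 CoxeterMatrix.E₇.toCoxeterSystem p
  have hG := Cfsg.Agent.BpExc.TorChev.GG_top (K := F) hpE7 CoxeterMatrix.E₇.toCoxeterSystem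
  obtain ⟨hirr, -⟩ := exists_char_PJ R hG
  have hft : Fintype ↥(chevE7.group F) := Fintype.ofFinite _
  obtain ⟨M, hM⟩ := Blocks.Knorr.exists_isPModular q
  -- the fixed point
  have hset : {j : Fin 7 | j ∈ ([0, 1, 2, 3, 4, 5] : List (Fin 7))} = {j | j ≠ 6} := by
    ext j
    revert j
    decide
  have hidx : ¬ q ∣ (P7 F {j | j ≠ 6}).index := by
    intro h
    have h1 := E6_ne (K := F) hq2 h4
    rw [hset] at h1
    exact h1 ((ZMod.natCast_eq_zero_iff _ _).2 h)
  have hV : ¬ Nat.card (VJ CoxeterMatrix.E₇.toCoxeterSystem hpE7.isCartan (XX chevE7 7 F) {j | j ≠ 6}) ≡ 1 [MOD q] := by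
    rw [card_VJ_E7, ← ZMod.natCast_eq_natCast_iff, Nat.cast_pow, Nat.cast_one]
    intro h
    have h1 := orderOf_dvd_of_pow_eq_one h
    rw [h4] at h1
    omega
  obtain ⟨Q, u, huV, hu1, hQu⟩ := exists_fixed (q := q) (P := P7 F {j | j ≠ 6})
    (V := VJ CoxeterMatrix.E₇.toCoxeterSystem hpE7.isCartan (XX chevE7 7 F) {j | j ≠ 6})
    (fun x hx v hv => (Subgroup.mem_normalizer_iff.1 (PJ_le_normalizer_VJ R _ hx) v).1 hv) hidx hV
  have hχ := not_mem_of_zero hM (χ := ⟨_, hirr⟩) (st_unip R hG (VJ_le_U _ huV) hu1) hQu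
  have h1 := H54.PB.sum_reg_not_mem hM hχ
  have h2 : ∀ g : ↥(chevE7.group F), regPart q (fun g => ∑ K ∈ (Finset.univ : Finset (Fin 7)).powerset, (-1 : ℂ) ^ K.card *
      fixedPointCharacter (P7 F (K : Set (Fin 7))) g) g = ∑ K ∈ (Finset.univ : Finset (Fin 7)).powerset,
        (-1 : ℂ) ^ K.card * regPart q (fixedPointCharacter (P7 F (K : Set (Fin 7)))) g := by
    intro g
    by_cases hg : q ∣ orderOf g
    · rw [regPart_of_dvd hg, Finset.sum_eq_zero]
      intro i _
      rw [regPart_of_dvd hg, mul_zero]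
    · rw [regPart_of_not_dvd hg]
      refine Finset.sum_congr rfl fun i _ => ?_
      rw [regPart_of_not_dvd hg]
  have h3 : ((∑ K : Finset (Fin 7), (-1 : ℤ) ^ K.card *
      (((P7 F (K : Set (Fin 7))).index * reg q (P7 F (K : Set (Fin 7))) : ℕ) : ℤ) : ℤ) : ℂ) = 0 := by
    refine Eq.trans ?_ h1
    refine Eq.symm ((Finset.sum_congr rfl fun g _ => h2 g).trans ?_)
    rw [Finset.sum_comm, Int.cast_sum, Finset.powerset_univ]
    refine Finset.sum_congr rfl fun K _ => ?_
    rw [← Finset.mul_sum, sum_regPart_perm, Int.cast_mul, Int.cast_natCast]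
    congr 1
    push_cast
    rfl
  exact_mod_cast h3

end Main

end Cfsg.Agent.H755.PB
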